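import Cfsg.Agent.H450.S8.Soc2
import Cfsg.Agent.H393.S8.ON

/-!
# S4908: the row SOC2 of `O'N` (helper740), from the superset of helper393 and the engine of helper450
-/

set_option autoImplicit false
set_option maxRecDepth 100000

namespace Cfsg.Agent.H740.S8.ONSoc

open Cfsg Cfsg.Agent.H450.S8 Cfsg.Agent.H393.S8.ON

universe u v

def P (d : ℕ) : Bool := Adm2.contains d

def NS : ℕ := 921631011840

def fac : List (ℕ × ℕ) := [(2, 10), (3, 4), (5, 1), (7, 3), (11, 1), (19, 1), (31, 1)]

theorem test : soc2Test NS P fac = true := by decide +kernel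

theorem dvd_all : (Adm2.all fun d => Nat.beq (NS % d) 0) = true := by decide +kernel

theorem num {X : Type v} [Group X] (hX : Spor.IsoON X) {D : Set ℕ} (hD : H704.S8.Deg 2 X D) : Num D NS P where
  pos := by norm_num [NS]
  dvd hd := Nat.dvd_of_mod_eq_zero (Nat.eq_of_beq_eq_true (List.all_eq_true.1 dvd_all _ (sup hX hD _ hd)))
  ok hd := List.contains_iff_mem.2 (sup hX hD _ hd)

/-- **SOC2** for the O'Nan group -/
theorem soc2 {X : Type v} [Group X] (hX : Spor.IsoON X) {D : Set ℕ} (hD : H704.S8.Deg 2 X D) : H704.S8.Soc2.{u} D :=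
  soc2_of_num (num hX hD) (fac := fac) (by
    intro x hx
    simp only [fac, List.mem_cons, List.not_mem_nil, or_false] at hx
    rcases hx with rfl | rfl | rfl | rfl | rfl | rfl | rfl <;> norm_num) test

end Cfsg.Agent.H740.S8.ONSoc
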