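import Mathlib

/-!
# A bound of `|T| k(T)` without the structure of `T` (helper740, S4908)

`K = |T| k(T) = ∑ |C_T(t)|`; the number `i` of the elements of square one satisfies `i ^ 2 ≤ K`.  If `|C_X(t)| ≤ M` for
the involutions and `|C_X(t)| ≤ C` for the other elements `t ≠ 1`, then `K ≤ |T| (1 + C) + M √K`.
* `bound` : `M < R`, `c R ^ 2 ≤ |X|`, `|T| (1 + C) < R (R - M)` imply `c |T| k(T) ≤ |X|`.
-/

set_option autoImplicit false

namespace Cfsg.Agent.H740.S8.Comm

section one

variable (T : Type*) [Group T] [Fintype T]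

open Classical in
/-- `∑ |C(t)| = |T| k(T)` -/
theorem sum_cent : ∑ t : T, Nat.card (Subgroup.centralizer {t}) = Nat.card T * Nat.card (ConjClasses T) := by
  rw [mul_comm, ← card_comm_eq_card_conjClasses_mul_card]
  have e : {p : T × T // Commute p.1 p.2} ≃ Σ t : T, ↥(Subgroup.centralizer ({t} : Set T)) :=
    { toFun := fun p => ⟨p.1.1, p.1.2, Subgroup.mem_centralizer_singleton_iff.2 p.2.eq.symm⟩
      invFun := fun p => ⟨(p.1, p.2.1), (Subgroup.mem_centralizer_singleton_iff.1 p.2.2).symm⟩
      left_inv := fun p => rfl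
      right_inv := fun p => rfl }
  rw [Nat.card_congr e, Nat.card_sigma]

open Classical in
/-- the elements of square one -/
noncomputable def sq : Finset T := Finset.univ.filter fun t => t * t = 1

variable {T} in
theorem mem_sq {t : T} : t ∈ sq T ↔ t * t = 1 := by
  classical
  unfold sq
  rw [Finset.mem_filter]
  exact ⟨fun h => h.2, fun h => ⟨Finset.mem_univ _, h⟩⟩

open Classical in
/-- at most `|C(g)|` elements invert `g` -/
theorem inverters_le {T : Type*} [Group T] [Fintype T] (g : T) :
    (Finset.univ.filter fun t : T => t * g * t⁻¹ = g⁻¹).card ≤ Nat.card (Subgroup.centralizer {g}) := by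
  by_cases h : ∃ a : T, a * g * a⁻¹ = g⁻¹
  · obtain ⟨a, ha⟩ := h
    rw [Nat.card_eq_fintype_card, ← Finset.card_univ]
    refine Finset.card_le_card_of_surjOn (fun c => a * (c : T)) ?_
    intro t ht
    rw [Finset.mem_coe, Finset.mem_filter] at ht
    refine ⟨⟨a⁻¹ * t, Subgroup.mem_centralizer_singleton_iff.2 ?_⟩, Finset.mem_coe.2 (Finset.mem_univ _), ?_⟩
    · have h1 := ht.2
      have h2 : t * g = a * g * a⁻¹ * t := by rw [ha, ← h1]; group
      calc a⁻¹ * t * g = a⁻¹ * (t * g) := by group
        _ = g * (a⁻¹ * t) := by rw [h2]; group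
    · change a * (a⁻¹ * t) = t
      group
  · rw [Finset.filter_eq_empty_iff.2 (fun t _ ht => h ⟨t, ht⟩), Finset.card_empty]
    exact Nat.zero_le _

open Classical in
/-- `i ^ 2 ≤ |T| k(T)` -/
theorem sq_card_sq_le : (sq T).card * (sq T).card ≤ Nat.card T * Nat.card (ConjClasses T) := by
  rw [← sum_cent, ← Finset.card_product]
  calc (sq T ×ˢ sq T).card
      ≤ ((Finset.univ : Finset T).sigma fun g => Finset.univ.filter fun t : T => t * g * t⁻¹ = g⁻¹).card := by
        refine Finset.card_le_card_of_injOn (fun p => ⟨p.1 * p.2, p.2⟩) ?_ ?_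
        · rintro ⟨s, t⟩ hp
          rw [Finset.mem_coe, Finset.mem_product] at hp
          have h1 : s * s = 1 := mem_sq.1 hp.1
          have h2 : t * t = 1 := mem_sq.1 hp.2
          rw [Finset.mem_coe, Finset.mem_sigma]
          refine ⟨Finset.mem_univ _, Finset.mem_filter.2 ⟨Finset.mem_univ _, ?_⟩⟩
          have h3 : s⁻¹ = s := inv_eq_of_mul_eq_one_right h1
          have h4 : t⁻¹ = t := inv_eq_of_mul_eq_one_right h2
          change t * (s * t) * t⁻¹ = (s * t)⁻¹
          rw [mul_inv_rev, h3, h4]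
          calc t * (s * t) * t = t * s * (t * t) := by group
            _ = t * s := by rw [h2, mul_one]
        · rintro ⟨s, t⟩ - ⟨s', t'⟩ - h
          simp only [Sigma.mk.injEq, heq_eq_eq] at h
          obtain ⟨h1, rfl⟩ := h
          rw [Prod.mk.injEq]
          exact ⟨mul_right_cancel h1, rfl⟩
    _ = ∑ g : T, (Finset.univ.filter fun t : T => t * g * t⁻¹ = g⁻¹).card := Finset.card_sigma _ _
    _ ≤ _ := Finset.sum_le_sum fun g _ => inverters_le g

end one

section sub

variable {X : Type*} [Group X] [Finite X]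

/-- the centralizer in the subgroup -/
theorem card_cent_le (T : Subgroup X) (t : T) :
    Nat.card (Subgroup.centralizer ({t} : Set T)) ≤ Nat.card (Subgroup.centralizer ({(t : X)} : Set X)) := by
  refine Nat.card_le_card_of_injective
    (fun c => ⟨(c : T), Subgroup.mem_centralizer_singleton_iff.2 ?_⟩) ?_
  · exact congrArg Subtype.val (Subgroup.mem_centralizer_singleton_iff.1 c.2)
  · intro a b h
    exact Subtype.ext (Subtype.ext (by simpa using h))

open Classical in
/-- `K ≤ |T| (1 + C) + M i` -/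
theorem le_add (T : Subgroup X) {M C : ℕ}
    (hM : ∀ g : X, g ≠ 1 → g * g = 1 → Nat.card (Subgroup.centralizer ({g} : Set X)) ≤ M)
    (hC : ∀ g : X, g * g ≠ 1 → Nat.card (Subgroup.centralizer ({g} : Set X)) ≤ C) :
    ∃ i : ℕ, i * i ≤ Nat.card T * Nat.card (ConjClasses T) ∧
      Nat.card T * Nat.card (ConjClasses T) ≤ Nat.card T * (1 + C) + M * i := by
  have := Fintype.ofFinite X
  have := Fintype.ofFinite T
  refine ⟨(sq T).card, sq_card_sq_le T, ?_⟩
  rw [← sum_cent]
  have h1 : ∀ t : T, Nat.card (Subgroup.centralizer ({t} : Set T)) ≤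
      (if t = 1 then Nat.card T else 0) + C + (if t ∈ sq T then M else 0) := by
    intro t
    by_cases h : t = 1
    · subst h
      rw [if_pos rfl]
      have : Nat.card (Subgroup.centralizer ({1} : Set T)) ≤ Nat.card T := Subgroup.card_le_card_group _
      omega
    · rw [if_neg h]
      by_cases h2 : t ∈ sq T
      · rw [if_pos h2]
        have h3 := (card_cent_le T t).trans (hM t (fun e => h (Subtype.ext e)) (by
          exact congrArg Subtype.val (mem_sq.1 h2)))
        omega
      · rw [if_neg h2]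
        have h3 := (card_cent_le T t).trans (hC t (fun e => h2 (mem_sq.2 (Subtype.ext e))))
        omega
  calc ∑ t : T, Nat.card (Subgroup.centralizer ({t} : Set T))
      ≤ ∑ t : T, ((if t = 1 then Nat.card T else 0) + C + (if t ∈ sq T then M else 0)) :=
        Finset.sum_le_sum fun t _ => h1 t
    _ = Nat.card T + Nat.card T * C + (sq T).card * M := by
        rw [Finset.sum_add_distrib, Finset.sum_add_distrib, Finset.sum_ite_eq' Finset.univ (1 : T),
          if_pos (Finset.mem_univ _), Finset.sum_const, Finset.card_univ, smul_eq_mul, ← Nat.card_eq_fintype_card,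
          Finset.sum_ite_mem, Finset.univ_inter, Finset.sum_const, smul_eq_mul]
    _ = _ := by ring

/-- **the bound**: `c |T| k(T) ≤ |X|` if `M < R`, `c R ^ 2 ≤ |X|` and `|T| (1 + C) < R (R - M)` -/
theorem bound (T : Subgroup X) {M C R c : ℕ}
    (hM : ∀ g : X, g ≠ 1 → g * g = 1 → Nat.card (Subgroup.centralizer ({g} : Set X)) ≤ M)
    (hC : ∀ g : X, g * g ≠ 1 → Nat.card (Subgroup.centralizer ({g} : Set X)) ≤ C)
    (hR : M < R) (hc : c * (R * R) ≤ Nat.card X) (hT : Nat.card T * (1 + C) < R * (R - M)) :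
    c * (Nat.card T * Nat.card (ConjClasses T)) ≤ Nat.card X := by
  obtain ⟨i, h1, h2⟩ := le_add T hM hC
  set K := Nat.card T * Nat.card (ConjClasses T) with hK
  by_cases h : K ≤ R * R
  · exact (Nat.mul_le_mul_left c h).trans hc
  · exfalso
    push Not at h
    have hsK : 0 ≤ (K : ℝ) := Nat.cast_nonneg _
    set s := Real.sqrt K with hs
    have e1 : s * s = K := Real.mul_self_sqrt hsK
    have e0 : 0 ≤ s := Real.sqrt_nonneg _
    have h1' : (i : ℝ) * i ≤ s * s := by rw [e1]; exact_mod_cast h1
    have h3 : (i : ℝ) ≤ s := by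
      by_contra hh
      push Not at hh
      nlinarith [Nat.cast_nonneg (α := ℝ) i]
    have h4 : (K : ℝ) ≤ Nat.card T * (1 + C) + M * i := by exact_mod_cast h2
    have h5 : (Nat.card T : ℝ) * (1 + C) < R * (R - M) := by
      have := hT
      have h6 : ((R - M : ℕ) : ℝ) = (R : ℝ) - M := Nat.cast_sub hR.le
      rw [← h6]
      exact_mod_cast this
    have h7 : (R : ℝ) * R < s * s := by rw [e1]; exact_mod_cast h
    have h8 : (R : ℝ) < s := by
      by_contra hh
      push Not at hh
      nlinarith [Nat.cast_nonneg (α := ℝ) R]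
    have hM0 : (0 : ℝ) ≤ M := Nat.cast_nonneg _
    have hRM : (M : ℝ) < R := by exact_mod_cast hR
    nlinarith [mul_le_mul_of_nonneg_left h3 hM0, mul_pos (sub_pos.2 h8) (sub_pos.2 hRM)]

end sub

end Cfsg.Agent.H740.S8.Comm
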