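import Cfsg.Agent.H514.RC.ON
import Cfsg.Agent.H740.S8.Comm
import Cfsg.Agent.H772.S8.Tool
import Cfsg.Agent.H653.Sieve.Check

/-!
# S4908: the FROB row of `O'N` (helper740)

`31 : 5`.  A proper subgroup `T` with `5 ∣ |T|` or `31 ∣ |T|` has index at least 250000 (engine of helper940), and then
`2 |T| k(T) ≤ |O'N|` by `Comm.bound` (`M = 161280`, `C = 80640`).
-/

set_option autoImplicit false
set_option maxRecDepth 100000

namespace Cfsg.Agent.H740.S8.ON

open Subgroup Cfsg Cfsg.Agent.H940.Eng Cfsg.Agent.H940.Eng.D Cfsg.Agent.H444.Fpr Cfsg.Agent.H474.ONC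
open Cfsg.Agent.H493.Sep.ONLoc (fin simple card)
open Cfsg.Agent.SporadicB.ON45Word (on)
open Cfsg.Agent.KFacts.ON.Words (hs vv v va vd)
open Cfsg.Agent.KFacts.ON.Struct
open Cfsg.Agent.ONType.TupK (K0)
open Cfsg.Agent.H514.RC.ONan (dead ctx D_ok DD exists_order known31 cent_seven prime_mem)
open Cfsg.Agent.H704.S8

universe u

abbrev G : Type := Cfsg.Spor.ON

theorem mem_c {a b : G} : a ∈ centralizer ({b} : Set G) ↔ a * b = b * a := mem_centralizer_singleton_iff

theorem cent_conj (g x : G) : Nat.card ↥(centralizer ({g * x * g⁻¹} : Set G)) = Nat.card ↥(centralizer ({x} : Set G)) :=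
  Cfsg.Agent.H690.Spor.ONRow.centralizer_conj g x

/-- an involution -/
theorem cent_inv {t : G} (h1 : t ≠ 1) (htt : t * t = 1) : Nat.card ↥(centralizer ({t} : Set G)) = 161280 := by
  obtain ⟨g, hg⟩ := isConj_iff.1 (Cfsg.Agent.KFacts.ON.OneClass.one_class htt h1)
  rw [← cent_conj g t, hg]
  exact Cfsg.Agent.H493.Sep.ONLoc.card_cent

/-- an element of order four with square `f` is not central in `C(f)` -/
theorem not_central {h : G} (hh : h * h = on .f) (hc : ∀ y ∈ K0, h * y = y * h) : False := by
  have h1 : h ∈ zpowers v := cent_J fun y hy => hc y (J_le hy)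
  obtain ⟨i, hi⟩ := h1
  have hi' : v ^ i = h := hi
  have hd := hc _ d_mem
  have h2 : on .d * h * (on .d)⁻¹ = h := by rw [← hd]; group
  have h3 : on .d * h * (on .d)⁻¹ = h⁻¹ := by
    rw [← hi', ← conj_zpow, vd, inv_zpow]
  have h4 : h * h = 1 := by
    rw [h2] at h3
    nth_rewrite 1 [h3]
    exact inv_mul_cancel h
  rw [h4] at hh
  exact f_ne_one hh.symm

/-- order four -/
theorem cent_four {h : G} (h2 : h * h ≠ 1) (h4 : (h * h) * (h * h) = 1) :
    Nat.card ↥(centralizer ({h} : Set G)) ≤ 80640 := by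
  have := fin
  obtain ⟨g, hg⟩ := isConj_iff.1 (Cfsg.Agent.KFacts.ON.OneClass.one_class h4 h2)
  set k := g * h * g⁻¹ with hk
  have hkk : k * k = on .f := by rw [← hg, hk]; group
  rw [← cent_conj g h, ← hk]
  have hle : centralizer ({k} : Set G) ≤ centralizer ({on .f} : Set G) := by
    intro y hy
    rw [mem_c] at hy ⊢
    rw [← hkk]
    calc y * (k * k) = (y * k) * k := by group
      _ = (k * y) * k := by rw [hy]
      _ = k * (y * k) := mul_assoc _ _ _
      _ = k * (k * y) := by rw [hy]
      _ = (k * k) * y := by group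
  have hcf : Nat.card ↥(centralizer ({on .f} : Set G)) = 161280 := Cfsg.Agent.H493.Sep.ONLoc.card_cent
  have hdvd := card_dvd_of_le hle
  rw [hcf] at hdvd
  have hne : Nat.card ↥(centralizer ({k} : Set G)) ≠ 161280 := by
    intro he
    have h5 : centralizer ({k} : Set G) = centralizer ({on .f} : Set G) :=
      eq_of_le_of_card_ge hle (by rw [he, hcf])
    refine not_central hkk fun y hy => ?_
    have h6 : y ∈ centralizer ({k} : Set G) := by
      rw [h5, mem_c]
      exact mem_K0.1 hy
    exact (mem_c.1 h6).symm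
  obtain ⟨m, hm⟩ := hdvd
  have hm2 : 2 ≤ m := by
    rcases m with _ | _ | m
    · omega
    · exfalso; apply hne; omega
    · omega
  have h7 : Nat.card ↥(centralizer ({k} : Set G)) * 2 ≤ 161280 := by
    rw [hm]
    exact Nat.mul_le_mul_left _ hm2
  omega

theorem cent_pow (g : G) (n : ℕ) :
    Nat.card ↥(centralizer ({g} : Set G)) ≤ Nat.card ↥(centralizer ({g ^ n} : Set G)) := by
  have := fin
  refine Nat.le_of_dvd Nat.card_pos (card_dvd_of_le fun y hy => ?_)
  rw [mem_c] at hy ⊢
  exact (Commute.pow_right (show Commute y g from hy) n).eq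

/-- **the other elements** -/
theorem cent_other (g : G) (hg : g * g ≠ 1) : Nat.card ↥(centralizer ({g} : Set G)) ≤ 80640 := by
  have := fin
  have hn0 : orderOf g ≠ 0 := (orderOf_pos g).ne'
  by_cases hodd : ∃ r : ℕ, r.Prime ∧ r ≠ 2 ∧ r ∣ orderOf g
  · obtain ⟨r, hr, hr2, hrd⟩ := hodd
    have h1 : orderOf (g ^ (orderOf g / r)) = r := orderOf_pow_orderOf_div hn0 hrd
    refine (cent_pow g (orderOf g / r)).trans ?_
    have h2 := prime_mem hr (hrd.trans (orderOf_dvd_natCard g))
    simp only [Finset.mem_insert, Finset.mem_singleton] at h2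
    rcases h2 with rfl | rfl | rfl | rfl | rfl | rfl | rfl
    · exact absurd rfl hr2
    · rw [H999.ONFiveCent.card_cent_three h1]; norm_num
    · rw [card_cent_five h1]; norm_num
    · exact (cent_seven h1).trans (by norm_num)
    · rw [card_cent_eleven h1]; norm_num
    · rw [H680.ONThirtyOne.card_cent_nineteen h1]; norm_num
    · rw [H680.ONThirtyOne.card_cent h1]; norm_num
  · push Not at hodd
    have h1 : ∃ k : ℕ, orderOf g = 2 ^ k := by
      refine ⟨(orderOf g).primeFactorsList.length, ?_⟩
      exact Nat.eq_prime_pow_of_unique_prime_dvd hn0 fun {r} hr hd => by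
        by_contra h
        exact hodd r hr h hd
    obtain ⟨k, hk⟩ := h1
    have hk2 : 2 ≤ k := by
      by_contra h
      have h3 : orderOf g ∣ 2 := by
        rw [hk]
        exact (pow_dvd_pow 2 (by omega : k ≤ 1)).trans (by norm_num)
      apply hg
      rw [← pow_two]
      exact orderOf_dvd_iff_pow_eq_one.1 h3
    obtain ⟨j, rfl⟩ : ∃ j, k = j + 2 := ⟨k - 2, by omega⟩
    refine (cent_pow g (2 ^ j)).trans (cent_four ?_ ?_)
    · intro h
      rw [← pow_add, ← two_mul, ← pow_succ', ] at h
      have h3 := orderOf_dvd_iff_pow_eq_one.2 h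
      rw [hk] at h3
      have h4 := (Nat.pow_dvd_pow_iff_le_right (by norm_num : 1 < 2)).1 h3
      omega
    · rw [← pow_add, ← pow_add]
      apply orderOf_dvd_iff_pow_eq_one.1
      rw [hk]
      exact ⟨1, by ring⟩

/-! ### The indices -/

def facs : List (ℕ × ℕ) := [(2, 9), (3, 4), (5, 1), (7, 3), (11, 1), (19, 1), (31, 1)]

def pr (d : ℕ) : Bool :=
  dead d || Nat.ble 250000 d || (!Nat.beq ((n_opn / d) % 5) 0 && !Nat.beq ((n_opn / d) % 31) 0)

theorem chk : H653.Sieve.allDiv 62500000000 pr facs 1 = true := by decide +kernel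

theorem facs_prod : H653.Sieve.facProd facs = n_opn := by decide +kernel

theorem index_ge (B : Base) {T : Subgroup G} (hT : T ≠ ⊤) (h : 31 ∣ Nat.card T ∨ 5 ∣ Nat.card T) :
    250000 ≤ T.index := by
  have := fin
  have := simple
  by_contra hcon
  have c := ctx B
  have hmi : Nat.card T * T.index = n_opn := by rw [Subgroup.card_mul_index, c.card]
  have hpr : ∀ pa ∈ facs, pa.1.Prime := by
    intro pa hpa
    simp only [facs, List.mem_cons, List.not_mem_nil, or_false] at hpa
    rcases hpa with rfl | rfl | rfl | rfl | rfl | rfl | rfl <;> norm_num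
  have h1 := H653.Sieve.allDiv_spec hpr chk T.index (by rw [facs_prod]; exact ⟨_, by rw [mul_comm]; exact hmi.symm⟩)
    (by
      have h2 : T.index < 250000 := not_le.1 hcon
      rw [one_mul]
      nlinarith)
  rw [one_mul] at h1
  have hi0 : T.index ≠ 0 := Subgroup.index_ne_zero_of_finite
  have hin : n_opn / T.index = Nat.card T := by
    rw [← hmi]
    exact Nat.mul_div_cancel _ (Nat.pos_of_ne_zero hi0)
  unfold pr dead at h1
  simp only [Bool.or_eq_true, Bool.and_eq_true, Bool.not_eq_true', beqF, bleT] at h1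
  rcases h1 with ((((h1 | h1) | h1) | h1) | h1) | h1
  · exact hT (Subgroup.index_eq_one.1 (by omega))
  · exact h1 (Nat.mod_eq_zero_of_dvd ⟨_, by rw [mul_comm]; exact hmi.symm⟩)
  · rw [adm_of_known D_ok hT] at h1
    exact absurd h1 (by decide)
  · rw [hin] at h1
    have h2 := not_bad c.val c.card c.ords c.loc (full := []) (bd := 20) (H := T) (by simp) hT
    rw [h1] at h2
    exact absurd h2 (by decide)
  · exact hcon h1
  · rw [hin] at h1
    rcases h with h | h
    · exact h1.2 (Nat.mod_eq_zero_of_dvd h)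
    · exact h1.1 (Nat.mod_eq_zero_of_dvd h)

theorem bound (B : Base) {T : Subgroup G} (hT : T ≠ ⊤) (h : 31 ∣ Nat.card T ∨ 5 ∣ Nat.card T) :
    2 * (Nat.card T * Nat.card (ConjClasses T)) ≤ Nat.card G := by
  have := fin
  have hi := index_ge B hT h
  have hmi : Nat.card T * T.index = n_opn := by rw [Subgroup.card_mul_index, card]
  have hT' : Nat.card T ≤ 1843262 := by
    by_contra hc
    push Not at hc
    have h1 : 1843263 * 250000 ≤ Nat.card T * T.index := Nat.mul_le_mul hc hi
    rw [hmi] at h1
    exact absurd h1 (by decide +kernel)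
  refine Comm.bound T (M := 161280) (C := 80640) (R := 480008) (c := 2) (fun g h1 h2 => (cent_inv h1 h2).le)
    (fun g h1 => cent_other g h1) (by norm_num) (by rw [card]; decide +kernel) ?_
  calc Nat.card T * (1 + 80640) ≤ 1843262 * (1 + 80640) := Nat.mul_le_mul_right _ hT'
    _ < _ := by norm_num

/-- **FROB row of `O'N`** -/
theorem row_model (B : Base) (D : Set ℕ) : FrobRow 2 D G := by
  have := fin
  obtain ⟨z, hz⟩ := exists_order (r := 31) (by norm_num) (by decide +kernel)
  have hP : Nat.card (zpowers z) = 31 := by rw [Nat.card_zpowers, hz]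
  refine Cfsg.Agent.H772.S8.frobRow_of (p := 31) (q := 5) (by norm_num) (by norm_num) hP ?_ ?_
    fun T hT h _ => bound B hT h
  · rw [known31.norm z hz]; norm_num
  · have h1 : centralizer ((zpowers z : Subgroup G) : Set G) = centralizer ({z} : Set G) := by
      ext y
      rw [mem_centralizer_iff, mem_c]
      constructor
      · intro h
        exact (h z (mem_zpowers z)).symm
      · rintro h _ ⟨i, rfl⟩
        exact ((Commute.zpow_right (show Commute y z from h) i).eq).symm
    rw [h1, known31.cent z hz]; norm_num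

theorem row (B : Base) {X : Type u} [Group X] (hX : Spor.IsoON X) (D : Set ℕ) : FrobRow 2 D X := by
  obtain ⟨e⟩ := hX
  exact Cfsg.Agent.H772.S8.congr e (row_model B D)

end Cfsg.Agent.H740.S8.ON
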